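import Mathlib
import Cfsg.Agent.Lib.Helper55.OOG.Defs

/-!
# Project OOG (S2413): package [SHORT]

One short root element `ρ_{e_0,t}`, the torus element and the Coxeter element give all short
root elements (from [EXIST], [ALG], [CONJ], [ORB]).
-/

set_option autoImplicit false
open scoped Matrix

namespace Cfsg.Agent.Lib.Helper66.OOG

open Cfsg.Agent.Lib.Helper55.OOG

universe u

/-- conjugating a short root element by `g` with `g u₀ = ε u₁`, `g t = δ t` -/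
theorem conj_short (hA : PkgAlg.{u}) (hC : PkgConj.{u}) {m : ℕ} {F : Type u} [Field F]
    (u₀ u₁ : Vec m F) (hu₁ : QF m F u₁ = 0) (g σ : ↥(Iso m F)) (ε δ c : F)
    (hg : mat g *ᵥ u₀ = ε • u₁) (hgt : mat g *ᵥ (T0 : Vec m F) = δ • T0)
    (hσ : IsSieg u₀ (c • T0) σ) : IsSieg u₁ ((ε * c * δ) • T0) (g * σ * g⁻¹) := by
  have h1 := hC m F u₀ (c • T0) g σ hσ
  rw [hg, Matrix.mulVec_smul, hgt, smul_smul] at h1
  have h2 := ((hA m F u₁ hu₁).2.2.2.1 ε ((c * δ) • T0) (g * σ * g⁻¹)).mp h1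
  rw [smul_smul] at h2
  have h3 : ε * (c * δ) = ε * c * δ := by ring
  rw [h3] at h2
  exact h2

/-- [SHORT] from [EXIST], [ALG], [CONJ], [ORB] -/
theorem pkgShort_of (hE : PkgExist.{u}) (hA : PkgAlg.{u}) (hC : PkgConj.{u}) (hO : PkgOrb.{u}) :
    PkgShort.{u} := by
  intro n F _ K s h b i₁ k hk hspan hs hh hht hb hsK hhK hbK
  have hzp : Subgroup.zpowers b ≤ K := by
    rw [Subgroup.zpowers_le]
    exact hbK
  have hBE : ∀ (i : Fin (n + 1)) (c : F), B (E i : Vec (n + 1) F) (c • T0) = 0 := by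
    intro i c
    rw [B_smul_right, B_E_T0, mul_zero]
  have hBF : ∀ (i : Fin (n + 1)) (c : F), B (Fv i : Vec (n + 1) F) (c • T0) = 0 := by
    intro i c
    rw [B_smul_right, B_Fv_T0, mul_zero]
  -- step 1
  obtain ⟨⟨g₁, hg₁, ε₁, δ₁, hε₁, hδ₁, hg₁e, hg₁t⟩, -⟩ := hO n F b hb i₁
  have hg₁K : g₁ ∈ K := hzp hg₁
  have hs' : IsSieg (E 0 : Vec (n + 1) F) ((1 : F) • T0) s := by
    rw [one_smul]
    exact hs
  have h1 := conj_short hA hC (E 0) (E i₁) (Q_E i₁) g₁ s ε₁ δ₁ 1 hg₁e hg₁t hs'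
  rw [mul_one] at h1
  have hc₀ : ε₁ * δ₁ ≠ 0 := mul_ne_zero hε₁ hδ₁
  obtain ⟨hAa, hAb, hAc, hAd, -, -⟩ := hA (n + 1) F (E i₁) (Q_E i₁)
  -- step 2 : the additive subgroup
  let A : AddSubgroup F :=
    { carrier := {x | ∀ σ : ↥(Iso (n + 1) F),
        IsSieg (E i₁) ((x * (ε₁ * δ₁)) • T0) σ → σ ∈ K}
      zero_mem' := by
        intro σ hσ
        rw [zero_mul, zero_smul] at hσ
        rw [isSieg_ext hσ hAa]
        exact K.one_mem
      add_mem' := by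
        intro x y hx hy σ hσ
        obtain ⟨σx, hσx⟩ := hE (n + 1) F (E i₁) ((x * (ε₁ * δ₁)) • T0) (Q_E i₁) (hBE _ _)
        obtain ⟨σy, hσy⟩ := hE (n + 1) F (E i₁) ((y * (ε₁ * δ₁)) • T0) (Q_E i₁) (hBE _ _)
        have h2 := hAb _ _ σx σy (hBE _ _) (hBE _ _) hσx hσy
        rw [← add_smul, ← add_mul] at h2
        rw [isSieg_ext hσ h2]
        exact K.mul_mem (hx σx hσx) (hy σy hσy)
      neg_mem' := by
        intro x hx σ hσ
        obtain ⟨σx, hσx⟩ := hE (n + 1) F (E i₁) ((x * (ε₁ * δ₁)) • T0) (Q_E i₁) (hBE _ _)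
        have h2 := hAc _ σx (hBE _ _) hσx
        rw [← neg_smul, ← neg_mul] at h2
        rw [isSieg_ext hσ h2]
        exact K.inv_mem (hx σx hσx) }
  have hA1 : (1 : F) ∈ A := by
    intro σ hσ
    rw [one_mul] at hσ
    rw [isSieg_ext hσ h1]
    exact K.mul_mem (K.mul_mem hg₁K hsK) (K.inv_mem hg₁K)
  have hAk : ∀ x ∈ A, k * k * x ∈ A := by
    intro x hx σ hσ
    obtain ⟨σx, hσx⟩ := hE (n + 1) F (E i₁) ((x * (ε₁ * δ₁)) • T0) (Q_E i₁) (hBE _ _)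
    have h2 := hC (n + 1) F (E i₁) ((x * (ε₁ * δ₁)) • T0) h σx hσx
    rw [hh, Matrix.mulVec_smul, hht] at h2
    have h3 := (hAd (k * k) ((x * (ε₁ * δ₁)) • T0) (h * σx * h⁻¹)).mp h2
    rw [smul_smul, ← mul_assoc] at h3
    rw [isSieg_ext hσ h3]
    exact K.mul_mem (K.mul_mem hhK (hx σx hσx)) (K.inv_mem hhK)
  have hAtop : A = ⊤ := hspan A hA1 hAk
  have hall₁ : ∀ (c : F) (σ : ↥(Iso (n + 1) F)), IsSieg (E i₁) (c • T0) σ → σ ∈ K := by
    intro c σ hσ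
    have hx : c / (ε₁ * δ₁) ∈ A := by
      rw [hAtop]
      exact AddSubgroup.mem_top _
    apply hx σ
    rw [div_mul_cancel₀ _ hc₀]
    exact hσ
  -- step 3 : all `ρ_{e_0, c t}`
  have hall₀ : ∀ (c : F) (σ : ↥(Iso (n + 1) F)), IsSieg (E 0) (c • T0) σ → σ ∈ K := by
    intro c σ hσ
    have h2 := conj_short hA hC (E 0) (E i₁) (Q_E i₁) g₁ σ ε₁ δ₁ c hg₁e hg₁t hσ
    have h3 := hall₁ _ _ h2
    have h4 : σ = g₁⁻¹ * (g₁ * σ * g₁⁻¹) * g₁ := by group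
    rw [h4]
    exact K.mul_mem (K.mul_mem (K.inv_mem hg₁K) h3) hg₁K
  -- step 4
  intro i c σ
  obtain ⟨⟨g, hg, ε, δ, hε, hδ, hge, hgt⟩, ⟨g', hg', ε', δ', hε', hδ', hge', hgt'⟩⟩ := hO n F b hb i
  constructor
  · intro hσ
    obtain ⟨σ', hσ'⟩ := hE (n + 1) F (E 0) ((c / (ε * δ)) • T0) (Q_E 0) (hBE _ _)
    have h2 := conj_short hA hC (E 0) (E i) (Q_E i) g σ' ε δ _ hge hgt hσ'
    have h3 : ε * (c / (ε * δ)) * δ = c := by
      field_simp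
    rw [h3] at h2
    rw [isSieg_ext hσ h2]
    exact K.mul_mem (K.mul_mem (hzp hg) (hall₀ _ _ hσ')) (K.inv_mem (hzp hg))
  · intro hσ
    obtain ⟨σ', hσ'⟩ := hE (n + 1) F (E 0) ((c / (ε' * δ')) • T0) (Q_E 0) (hBE _ _)
    have h2 := conj_short hA hC (E 0) (Fv i) (Q_Fv i) g' σ' ε' δ' _ hge' hgt' hσ'
    have h3 : ε' * (c / (ε' * δ')) * δ' = c := by
      field_simp
    rw [h3] at h2
    rw [isSieg_ext hσ h2]
    exact K.mul_mem (K.mul_mem (hzp hg') (hall₀ _ _ hσ')) (K.inv_mem (hzp hg'))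

end Cfsg.Agent.Lib.Helper66.OOG
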